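import Groth.Agent.Dual6Lib.OmegaS2.Main
import Groth.Agent.DualLib.ShriekCM
import Groth.Agent.AlgSpLib.LqfDim
import Groth.Agent.CommAlg6.SerreOpen

/-!
# `(S_2)` for the lowest cohomology sheaf of `f^! O` over a Cohen–Macaulay point
-/

set_option autoImplicit false
set_option backward.isDefEq.respectTransparency false
set_option backward.defeqAttrib.useBackward true
set_option linter.style.haveILetI false

universe u

open CategoryTheory CategoryTheory.Limits AlgebraicGeometry TopologicalSpace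

attribute [local instance] HasDerivedCategory.standard

namespace Groth.Agent.Dual6Lib.OmegaS2

open Groth.Agent Groth.Agent.DualLib

/-- `(S_k)` of a localization gives `(S_k)` at the primes it contains. -/
theorem hasSkAt_of_hasSk_localized {A : Type u} [CommRing A] [IsNoetherianRing A] (k : ℕ) (M : Type u)
    [AddCommGroup M] [Module A M] [Module.Finite A M] (T : Submonoid A) (q : Ideal A) [q.IsPrime]
    (hT : Disjoint (T : Set A) q) (h : _root_.LocCoh.HasSk k (Localization T) (LocalizedModule T M)) :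
    EGA4.HasSkAt k A M q := by
  refine (CommAlg6.hasSkAt_iff k M q).2 fun p _ hp => ?_
  have hpT : Disjoint (T : Set A) p := hT.mono_right hp
  haveI := IsLocalization.isPrime_of_isPrime_disjoint T (Localization T) p inferInstance hpT
  obtain ⟨h₁, h₂⟩ := CAlgH3.SkEmbedded.localized_localized (M := M) T (p.map (algebraMap A (Localization T)))
  have hu : (p.map (algebraMap A (Localization T))).under A = p :=
    IsLocalization.under_map_of_isPrime_disjoint T (Localization T) inferInstance hpT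
  have h₃ := h (p.map (algebraMap A (Localization T)))
  rw [h₁, h₂] at h₃
  have gen : ∀ (I J : Ideal A) [I.IsPrime] [J.IsPrime], I = J →
      min (k : WithBot ℕ∞) (Module.supportDim (Localization.AtPrime I) (LocalizedModule I.primeCompl M)) ≤
        ((_root_.LocCoh.depth (Localization.AtPrime I) (LocalizedModule I.primeCompl M) : ℕ∞) : WithBot ℕ∞) →
      min (k : WithBot ℕ∞) (Module.supportDim (Localization.AtPrime J) (LocalizedModule J.primeCompl M)) ≤
        ((_root_.LocCoh.depth (Localization.AtPrime J) (LocalizedModule J.primeCompl M) : ℕ∞) : WithBot ℕ∞) := by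
    rintro I J _ _ rfl h
    exact h
  exact gen _ _ hu h₃

variable [∀ (U V : Scheme.{u}) (j : U ⟶ V) [IsOpenImmersion j], PreservesFiniteLimits (Scheme.Modules.restrictFunctor j)]

theorem shriek_over_cm {X Y : Scheme.{u}} [IsNoetherian Y] (f : X ⟶ Y) [LocallyOfFiniteType f] [QuasiCompact f]
    (c : DEt.Compactification f) [DCoh.HasRpush c.fbar] (hc : DCoh.RpushPreservesQCoh c.fbar)
    (a : DCoh.DQCoh Y ⥤ DCoh.DQCoh c.Xbar) (adj : DCoh.RpushQ c.fbar hc ⊣ a) (O : DCoh.DQCoh Y)
    (hO : Nonempty (O.obj ≅ DCoh.inD Y (Coh.structureModule Y))) (x : X) (r : ℕ)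
    (hCM : LocCoh.IsCohenMacaulayLocalRing (Y.presheaf.stalk (f x)))
    (htr : ∀ Z : Set X, Z ∈ irreducibleComponents X → x ∈ Z → ∀ ξ : X, closure ({ξ} : Set X) = Z →
      Dual3.resTrdeg f ξ ≤ (r : Cardinal.{u})) :
    (∀ i : ℤ, Nontrivial ((DCoh.HD ((Dual3.shriekC c a).obj O) i).presheaf.stalk x) → -(r : ℤ) ≤ i) ∧
      _root_.LocCoh.HasSk 2 (X.presheaf.stalk x)
        ((DCoh.HD ((Dual3.shriekC c a).obj O) (-(r : ℤ))).presheaf.stalk x) := by
  haveI : IsLocallyNoetherian X := LocallyOfFiniteType.isLocallyNoetherian f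
  haveI : CompactSpace X := QuasiCompact.compactSpace_of_compactSpace f
  haveI : IsNoetherian X := { }
  haveI : ∀ (S : CommRingCat.{u}), PreservesFiniteLimits (tilde.functor S) :=
    AffSchLib.preservesFiniteLimits_tilde
  let bad : Set (Set X) := {Z | Z ∈ irreducibleComponents X ∧ x ∉ Z}
  have hbad : IsClosed (⋃ Z ∈ bad, Z) :=
    (NoetherianSpace.finite_irreducibleComponents.subset fun Z hZ => hZ.1).isClosed_biUnion
      fun Z hZ => isClosed_of_mem_irreducibleComponents Z hZ.1
  let W : X.Opens := ⟨(⋃ Z ∈ bad, Z)ᶜ, hbad.isOpen_compl⟩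
  have hxW : x ∈ W := fun hx => by
    obtain ⟨Z, hZ, hxZ⟩ := Set.mem_iUnion₂.1 hx
    exact hZ.2 hxZ
  obtain ⟨C, hCW⟩ := ShriekCM.nonempty_chart_within c hc a adj O hO x W hxW
  let g := Spec.map (CommRingCat.ofHom (algebraMap C.R C.B))
  let p : Ideal C.R := C.pt.asIdeal.comap (algebraMap C.R C.B)
  haveI : LocCoh.IsCohenMacaulayLocalRing (Localization.AtPrime p) := by
    let y : PrimeSpectrum C.R := g C.pt
    have hfx : f x = C.jY y := by
      exact (congrArg f C.hpt.symm).trans (congrArg (fun (h : Spec (CommRingCat.of C.B) ⟶ Y) => h C.pt) C.comm)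
    rw [hfx] at hCM
    haveI := hCM
    exact CAlgH3.isCohenMacaulayLocalRing_of_ringEquiv
      ((asIso (C.jY.stalkMap y)).commRingCatIsoToRingEquiv.trans (StructureSheaf.stalkIso C.R y).symm.toRingEquiv)
  have hr : ∀ q : PrimeSpectrum C.B, q.asIdeal ∈ minimalPrimes C.B →
      Dual3.resTrdeg g q ≤ (r : Cardinal.{u}) := by
    intro q hq
    rw [← AlgSpLib.resTrdeg_eq_of_etale_square C.jX C.jY C.comm q]
    have hξ : closure ({C.jX q} : Set X) ∈ irreducibleComponents X := by
      obtain ⟨Z, hZ, hξZ⟩ : ∃ Z ∈ irreducibleComponents X, C.jX q ∈ Z :=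
        ⟨irreducibleComponent (C.jX q), irreducibleComponent_mem_irreducibleComponents _, mem_irreducibleComponent⟩
      obtain ⟨η, hη⟩ := QuasiSober.sober hZ.1 (isClosed_of_mem_irreducibleComponents Z hZ)
      have hspec : η ⤳ C.jX q := hη.specializes hξZ
      obtain ⟨q', rfl⟩ := hspec.mem_open C.jX.isOpenEmbedding.isOpen_range ⟨q, rfl⟩
      have hle : q'.asIdeal ≤ q.asIdeal :=
        (PrimeSpectrum.le_iff_specializes q' q).2 (C.jX.isOpenEmbedding.isInducing.specializes_iff.1 hspec)
      have : q' = q := PrimeSpectrum.ext (le_antisymm hle (hq.2 ⟨q'.2, bot_le⟩ hle))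
      subst this
      rwa [hη.def]
    refine htr _ hξ ?_ (C.jX q) rfl
    by_contra hxn
    exact hCW ⟨q, rfl⟩ (Set.mem_iUnion₂.2 ⟨_, ⟨hξ, hxn⟩, subset_closure rfl⟩)
  obtain ⟨h₁, h₂⟩ := omega_bound C.ψ C.surj C.adj p r hr
  have hdisj : Disjoint (Algebra.algebraMapSubmonoid C.B p.primeCompl : Set C.B) C.pt.asIdeal := by
    rw [Set.disjoint_left]
    rintro _ ⟨s, hs, rfl⟩ h
    exact hs h
  constructor
  · intro i hi
    rw [← C.hpt] at hi
    have hs := (Dual22Lib.nontrivial_stalk_iff C.jX C.iso C.pt i).1 hi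
    by_contra hlt
    haveI := h₁ i (not_le.1 hlt)
    obtain ⟨m, hm⟩ := Module.mem_support_iff'.1 hs
    obtain ⟨s, hs', hsm⟩ := (LocalizedModule.subsingleton_iff).1 ‹_› m
    exact hm s (fun h => Set.disjoint_left.1 hdisj hs' h) hsm
  · haveI := Omega.finite_HD C.ψ C.surj C.adj (-(r : ℤ))
    obtain ⟨φ, e, he⟩ := Dual22Lib.stalk_semilinear C.jX C.iso C.pt (-(r : ℤ))
    have hS := hasSkAt_of_hasSk_localized 2 _ _ C.pt.asIdeal hdisj h₂
    haveI : IsNoetherianRing (X.presheaf.stalk (C.jX C.pt)) := isNoetherianRing_of_ringEquiv _ φ.symm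
    have := Dual22Lib.hasSk_of_semilinear φ e he hS
    rwa [C.hpt] at this

end Groth.Agent.Dual6Lib.OmegaS2
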