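import Groth.Agent.DualLib.ShriekDeg
import Groth.Agent.Dual22Lib.Bottom
import Groth.Agent.LocCoh.ExtVanishing
import Groth.Agent.CAlgH3.ExtBaseChange
import Groth.Agent.CAlgH3.SkEmbedded
import Groth.Agent.CAlgH3.ExtShift
import Groth.Agent.CAlgH3.CMPolynomial
import Groth.Agent.CAlgH3.Serre
import Groth.Agent.CAlgH.DepthCriterion
import Groth.Agent.CAlgMisc2.HomDepth
import Mathlib.RingTheory.MvPolynomial.Localization
import Groth.Prelude.Def_Dual3

/-!
# `(S_2)` for the lowest cohomology of `φ^! R` over a Cohen–Macaulay point of the base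
-/

set_option autoImplicit false
set_option backward.isDefEq.respectTransparency false
set_option backward.defeqAttrib.useBackward true
set_option linter.style.haveILetI false
set_option linter.unusedSectionVars false

universe u

open CategoryTheory CategoryTheory.Limits RingTheory.Sequence TensorProduct

attribute [local instance] HasDerivedCategory.standard

namespace Groth.Agent.Dual6Lib.OmegaS2

open Groth.Agent Groth.Agent.DualLib

section Algebra

variable {P : Type u} [CommRing P] [LocCoh.IsCohenMacaulayRing P]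

/-- A quotient of a Cohen–Macaulay ring by a regular sequence satisfies every `(S_k)`. -/
theorem hasSk_quotient_regular (k : ℕ) (fs : List P) (h : IsWeaklyRegular P fs) :
    _root_.LocCoh.HasSk k P (P ⧸ Ideal.ofList fs • (⊤ : Submodule P P)) := by
  intro Q _
  by_cases hQ : ∀ f ∈ fs, f ∈ Q
  · haveI := LocCoh.IsCohenMacaulayRing.isCohenMacaulayLocalRing_localization (R := P) Q
    haveI : Nontrivial (LocalizedModule Q.primeCompl P) := (CAlgH3.localizedModuleSelf Q).toEquiv.nontrivial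
    obtain ⟨h₁, h₂⟩ := CAlgH3.SkEmbedded.at_prime_quotient (M := P) Q fs h hQ
    have h₃ := h₂ inferInstance
    rw [Module.supportDim_eq_of_equiv (CAlgH3.localizedModuleSelf Q),
      LocCoh.IsCohenMacaulayLocalRing.supportDim_eq_depth] at h₃
    rw [CAlgH3.depth_congr (CAlgH3.localizedModuleSelf Q)] at h₁
    rw [← h₁, WithBot.coe_add] at h₃
    refine (min_le_right _ _).trans (le_of_eq ?_)
    revert h₃
    generalize Module.supportDim (Localization.AtPrime Q)
      (LocalizedModule Q.primeCompl (P ⧸ Ideal.ofList fs • (⊤ : Submodule P P))) = a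
    intro h₃
    induction a using WithBot.recBotCoe with
    | bot =>
      simp only [← WithBot.coe_natCast, ← WithBot.coe_add, WithBot.bot_add] at h₃
      exact absurd h₃ WithBot.bot_ne_coe
    | coe a =>
      simp only [← WithBot.coe_natCast, ← WithBot.coe_add, WithBot.coe_inj] at h₃
      rw [WithTop.add_right_cancel (ENat.natCast_ne_top _) h₃]
  · push Not at hQ
    obtain ⟨f, hf, hfQ⟩ := hQ
    haveI : Subsingleton (LocalizedModule Q.primeCompl (P ⧸ Ideal.ofList fs • (⊤ : Submodule P P))) := by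
      refine LocalizedModule.subsingleton_iff.2 fun x => ⟨f, hfQ, ?_⟩
      obtain ⟨y, rfl⟩ := Submodule.Quotient.mk_surjective _ x
      rw [← Submodule.Quotient.mk_smul, Submodule.Quotient.mk_eq_zero]
      exact Submodule.smul_mem_smul (Ideal.subset_span hf) Submodule.mem_top
    rw [Module.supportDim_eq_bot_of_subsingleton]
    simp

/-- `Ext` into a Cohen–Macaulay ring below and at the grade. -/
theorem ext_cm (I : Ideal P) (c : ℕ)
    (hc : ∀ (Q : Ideal P) [Q.IsPrime], I ≤ Q → (c : WithBot ℕ∞) ≤ Q.height) :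
    (∀ j < c, Subsingleton (Abelian.Ext (ModuleCat.of P (P ⧸ I)) (ModuleCat.of P P) j)) ∧
      _root_.LocCoh.HasSk 2 P (Abelian.Ext (ModuleCat.of P (P ⧸ I)) (ModuleCat.of P P) c) := by
  obtain ⟨fs, hlen, hfI, hreg⟩ := CAlgH.DepthCriterion.exists_weaklyRegular_of_depth c (M := P) I fun Q _ hQ => by
    haveI := LocCoh.IsCohenMacaulayRing.isCohenMacaulayLocalRing_localization (R := P) Q
    rw [CAlgH3.depth_congr (CAlgH3.localizedModuleSelf Q), ← WithBot.coe_le_coe,
      ← LocCoh.IsCohenMacaulayLocalRing.supportDim_eq_depth, Module.supportDim_self_eq_ringKrullDim,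
      IsLocalization.AtPrime.ringKrullDim_eq_height Q]
    exact hc Q hQ
  obtain ⟨h₁, ⟨e⟩⟩ := LocCoh.ext_regular_shift fs P hreg (P ⧸ I) fun x hx y => by
    obtain ⟨y, rfl⟩ := Submodule.Quotient.mk_surjective _ y
    rw [← Submodule.Quotient.mk_smul, Submodule.Quotient.mk_eq_zero]
    exact I.mul_mem_right y (hfI x hx)
  subst hlen
  exact ⟨h₁, (EGA43.FibDepth.hasSk_congr e 2).2
    (CAlgMisc2.hasSk_hom (P ⧸ I) _ le_rfl (hasSk_quotient_regular 2 fs hreg))⟩

end Algebra

section Semilinear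

variable {P A : Type u} [CommRing P] [CommRing A] {M : Type u} [AddCommGroup M] [Module A M]
  {E : Type u} [AddCommGroup E] [Module P E]

/-- Localization of semilinearly isomorphic modules along a surjection. -/
theorem subsingleton_localized_of_semilinear (ψ : P →+* A) (W : Submonoid P) (S : Submonoid A)
    (hS : W.map ψ = S) (Φ : M ≃+ E) (hΦ : ∀ a m, Φ (ψ a • m) = a • Φ m)
    (P' : Type u) [CommRing P'] [Algebra P P'] [IsLocalization W P'] [Subsingleton (P' ⊗[P] E)] :
    Subsingleton (LocalizedModule S M) := by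
  haveI := (isLocalizedModule_iff_isBaseChange W P' (TensorProduct.mk P P' E 1)).2
    (TensorProduct.isBaseChange P E P')
  refine LocalizedModule.subsingleton_iff.2 fun m => ?_
  obtain ⟨w, hw⟩ := (IsLocalizedModule.eq_zero_iff W (TensorProduct.mk P P' E 1) (m := Φ m)).1
    (Subsingleton.elim _ _)
  refine ⟨ψ w, hS ▸ Submonoid.mem_map_of_mem _ w.2, Φ.injective ?_⟩
  rw [hΦ, map_zero]
  exact hw

/-- `(S_k)` for localizations of semilinearly isomorphic modules along a surjection. -/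
theorem hasSk_localized_of_semilinear (ψ : P →+* A) (hψ : Function.Surjective ψ) (W : Submonoid P) (S : Submonoid A)
    (hS : W.map ψ = S) (Φ : M ≃+ E) (hΦ : ∀ a m, Φ (ψ a • m) = a • Φ m)
    (P' : Type u) [CommRing P'] [IsNoetherianRing P'] [Algebra P P'] [IsLocalization W P']
    [Module.Finite P' (P' ⊗[P] E)] (k : ℕ) (h : _root_.LocCoh.HasSk k P' (P' ⊗[P] E)) :
    _root_.LocCoh.HasSk k (Localization S) (LocalizedModule S M) := by
  have hle : W ≤ S.comap ψ := fun w hw => hS ▸ Submonoid.mem_map_of_mem _ hw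
  let ψ' : P' →+* Localization S := IsLocalization.map (Localization S) ψ hle
  have hψ' : Function.Surjective ψ' := fun x => by
    obtain ⟨⟨a, s⟩, rfl⟩ := IsLocalization.mk'_surjective S x |>.imp' id fun _ h => h
    obtain ⟨b, rfl⟩ := hψ a
    obtain ⟨w, hw, hws⟩ := Submonoid.mem_map.1 (hS ▸ s.2 : (s : A) ∈ W.map ψ)
    exact ⟨IsLocalization.mk' P' b ⟨w, hw⟩, by
      simp only [ψ', IsLocalization.map_mk']
      congr 1
      exact Subtype.ext hws⟩
  letI : Algebra P' (Localization S) := ψ'.toAlgebra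
  letI : Module P' (LocalizedModule S M) := Module.compHom _ ψ'
  haveI : IsScalarTower P' (Localization S) (LocalizedModule S M) := .of_algebraMap_smul fun _ _ => rfl
  letI : Module P M := Module.compHom M ψ
  letI : Module P (LocalizedModule S M) := Module.compHom _ ψ
  haveI : IsScalarTower P P' (LocalizedModule S M) := .of_algebraMap_smul fun p x => by
    show ψ' (algebraMap P P' p) • x = ψ p • x
    rw [IsLocalization.map_eq, algebraMap_smul]
  let e : M ≃ₗ[P] E := { Φ with map_smul' := hΦ }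
  let ι : M →ₗ[P] LocalizedModule S M :=
    { toFun := LocalizedModule.mkLinearMap S M
      map_add' := map_add _
      map_smul' := fun p m => (LocalizedModule.mkLinearMap S M).map_smul (ψ p) m }
  haveI : IsLocalizedModule W ι :=
    { map_units := fun w => by
        have h := IsLocalizedModule.map_units (LocalizedModule.mkLinearMap S M)
          (⟨ψ w, hle w.2⟩ : S)
        rw [Module.End.isUnit_iff] at h ⊢
        exact h
      surj := fun x => by
        obtain ⟨⟨m, s⟩, hm⟩ := IsLocalizedModule.surj S (LocalizedModule.mkLinearMap S M) x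
        obtain ⟨w, hw, hws⟩ := Submonoid.mem_map.1 (hS ▸ s.2 : (s : A) ∈ W.map ψ)
        refine ⟨(m, ⟨w, hw⟩), ?_⟩
        show ψ w • x = LocalizedModule.mkLinearMap S M m
        rw [hws]
        exact hm
      exists_of_eq := fun {x y} hxy => by
        obtain ⟨s, hs⟩ := IsLocalizedModule.exists_of_eq (S := S) (f := LocalizedModule.mkLinearMap S M) hxy
        obtain ⟨w, hw, hws⟩ := Submonoid.mem_map.1 (hS ▸ s.2 : (s : A) ∈ W.map ψ)
        refine ⟨⟨w, hw⟩, ?_⟩
        show ψ w • x = ψ w • y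
        rw [hws]
        exact hs }
  haveI := (isLocalizedModule_iff_isBaseChange W P' (TensorProduct.mk P P' E 1)).2
    (TensorProduct.isBaseChange P E P')
  haveI : IsLocalizedModule W ((TensorProduct.mk P P' E 1).comp e.toLinearMap) :=
    IsLocalizedModule.of_linearEquiv_right _ _ e
  let ε : LocalizedModule S M ≃ₗ[P'] P' ⊗[P] E :=
    (IsLocalizedModule.linearEquiv W ι ((TensorProduct.mk P P' E 1).comp e.toLinearMap)).extendScalarsOfIsLocalization W P'
  haveI : Module.Finite P' (LocalizedModule S M) := Module.Finite.equiv ε.symm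
  exact (EGA43.FibDepth.hasSk_of_surjective_iff hψ' k).1 ((EGA43.FibDepth.hasSk_congr ε k).2 h)

end Semilinear

section Shriek

variable {R A : Type u} [CommRing R] [IsNoetherianRing R] [CommRing A] [Algebra R A] {n : ℕ}
  (ψ : MvPolynomial (Fin n) R →ₐ[R] A) (hψ : Function.Surjective ψ)
  [DRing.HasLBaseChange (algebraMap R (MvPolynomial (Fin n) R))]
  {Rψ : Dual.D (MvPolynomial (Fin n) R) ⥤ Dual.D A} (adj : DRing.restrictD ψ.toRingHom ⊣ Rψ)

include hψ adj in
/-- `H^i(φ^! R) = E^{n+i}_P(A, P)`, linearly over `P`. -/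
theorem exists_HD_E (i j : ℤ) (hj : (n : ℤ) + i = j) :
    ∃ Φ : Dual.HD A (Dual2.shriekVia n Rψ (Dual.inD R R)) i ≃+
      DualLib.E (Dual.inD (MvPolynomial (Fin n) R) (MvPolynomial (Fin n) R))
        (MvPolynomial (Fin n) R ⧸ RingHom.ker ψ.toRingHom) j,
      ∀ a m, Φ (ψ a • m) = a • Φ m := by
  let P := MvPolynomial (Fin n) R
  letI : Algebra P A := ψ.toRingHom.toAlgebra
  obtain ⟨b⟩ := Shriek.nonempty_lbase_inD (R := R) (n := n)
  let L := Dual.inD P P
  let σ : Dual.HD A (Dual2.shriekVia n Rψ (Dual.inD R R)) i ≃ₗ[A] Dual.HD A (Rψ.obj L) j :=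
    (((DerivedCategory.homologyFunctor (ModuleCat.{u} A) 0).shiftIso (n : ℤ) i j hj).app _).toLinearEquiv ≪≫ₗ
      ((DerivedCategory.homologyFunctor (ModuleCat.{u} A) j).mapIso (Rψ.mapIso b)).toLinearEquiv
  obtain ⟨e, he⟩ := FiniteAdjoint.exists_relE (A := P) (B := A) adj A L j
  let l : P →ₗ[P] FiniteAdjoint.res P A A :=
    { toFun := fun a => (ψ a : A)
      map_add' := fun a b => map_add ψ a b
      map_smul' := fun a b => map_mul ψ a b }
  let φ : (P ⧸ RingHom.ker ψ.toRingHom) →ₗ[P] FiniteAdjoint.res P A A := Submodule.liftQ _ l fun a ha => ha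
  have hφ : Function.Bijective φ := by
    refine ⟨?_, fun z => ?_⟩
    · rw [← LinearMap.ker_eq_bot, Submodule.ker_liftQ, eq_bot_iff]
      rintro _ ⟨a, ha, rfl⟩
      rw [Submodule.mem_bot, Submodule.mkQ_apply, Submodule.Quotient.mk_eq_zero]
      exact ha
    · obtain ⟨a, ha⟩ := hψ z
      exact ⟨Submodule.Quotient.mk a, ha⟩
  let τ := σ ≪≫ₗ (eSelf (Rψ.obj L) j).symm
  let c := econgr L (LinearEquiv.ofBijective φ hφ) j
  refine ⟨(τ.toAddEquiv.trans e).trans c.toAddEquiv, fun a m => ?_⟩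
  show c (e (τ (algebraMap P A a • m))) = a • c (e (τ m))
  rw [map_smul, he, map_smul]

include hψ in
/-- Heights of primes over the kernel. -/
theorem natCast_le_height [Algebra.FiniteType R A] (r c : ℕ) (hc : c + r ≤ n)
    (hr : ∀ q : PrimeSpectrum A, q.asIdeal ∈ minimalPrimes A →
      Dual3.resTrdeg (AlgebraicGeometry.Spec.map (CommRingCat.ofHom (algebraMap R A))) q ≤ (r : Cardinal.{u}))
    (Q : Ideal (MvPolynomial (Fin n) R)) [Q.IsPrime] (hQ : RingHom.ker ψ.toRingHom ≤ Q) :
    (c : WithBot ℕ∞) ≤ Q.height := by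
  obtain ⟨Q₀, hQ₀, hle⟩ := Ideal.exists_minimalPrimes_le hQ
  haveI : Q₀.IsPrime := hQ₀.1.1
  refine le_trans ?_ (WithBot.coe_le_coe.2 (Ideal.height_mono hle))
  let q₀ : PrimeSpectrum A := ⟨Q₀.map ψ.toRingHom, Ideal.map_isPrime_of_surjective hψ hQ₀.1.2⟩
  have hq₀ : PrimeSpectrum.comap ψ.toRingHom q₀ = ⟨Q₀, inferInstance⟩ := PrimeSpectrum.ext
    ((Ideal.comap_map_of_surjective _ hψ Q₀).trans (sup_eq_left.2 hQ₀.1.2))
  have hmin : q₀.asIdeal ∈ minimalPrimes A := by
    have h : Q₀ ∈ Ideal.comap ψ.toRingHom '' minimalPrimes A := by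
      rw [minimalPrimes, ← Ideal.comap_minimalPrimes_eq_of_surjective hψ]
      rwa [← RingHom.ker_eq_comap_bot]
    obtain ⟨q, hq, hqQ⟩ := h
    show Q₀.map ψ.toRingHom ∈ minimalPrimes A
    rw [← hqQ, Ideal.map_comap_of_surjective ψ.toRingHom hψ]
    exact hq
  have h₁ := Shriek.natCast_le_depth_add_trd n (⟨Q₀, inferInstance⟩ : PrimeSpectrum (MvPolynomial (Fin n) R))
  rw [← hq₀, EGA43.FibDepth.trd_comap_of_surjectiveOnStalks ψ (RingHom.surjectiveOnStalks_of_surjective hψ) q₀,
    hq₀] at h₁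
  have h₂ : EGA43.FibDepth.trd R q₀ ≤ r := by
    have h0 := EGA43.DimFormula.trdegHom_specMap (R := CommRingCat.of R) (S := CommRingCat.of A)
      (CommRingCat.ofHom (algebraMap R A)) q₀
    have hA : (CommRingCat.ofHom (algebraMap R A)).hom.toAlgebra = ‹Algebra R A› :=
      Algebra.algebra_ext _ _ fun _ => rfl
    rw [hA] at h0
    rw [show EGA43.FibDepth.trd R q₀ = _ from h0.symm]
    exact (Cardinal.toNat_le_toNat (hr q₀ hmin) (Cardinal.natCast_lt_aleph0)).trans_eq (Cardinal.toNat_natCast r)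
  have h₃ : (c : ℕ∞) ≤ _root_.LocCoh.depth (Localization.AtPrime Q₀) (Localization.AtPrime Q₀) := by
    refine (ENat.add_le_add_iff_right (ENat.coe_ne_top (EGA43.FibDepth.trd R q₀))).1 (le_trans ?_ h₁)
    exact_mod_cast (show c + EGA43.FibDepth.trd R q₀ ≤ n by omega)
  refine le_trans (WithBot.coe_le_coe.2 h₃) (le_trans (CAlgH3.depth_le_supportDim) ?_)
  rw [Module.supportDim_self_eq_ringKrullDim, IsLocalization.AtPrime.ringKrullDim_eq_height Q₀]

include hψ adj in
theorem omega_bound [IsNoetherianRing A] (p : Ideal R) [p.IsPrime]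
    [LocCoh.IsCohenMacaulayLocalRing (Localization.AtPrime p)] (r : ℕ)
    (hr : ∀ q : PrimeSpectrum A, q.asIdeal ∈ minimalPrimes A →
      Dual3.resTrdeg (AlgebraicGeometry.Spec.map (CommRingCat.ofHom (algebraMap R A))) q ≤ (r : Cardinal.{u})) :
    (∀ i : ℤ, i < -(r : ℤ) → Subsingleton (LocalizedModule (Algebra.algebraMapSubmonoid A p.primeCompl)
        (Dual.HD A (Dual2.shriekVia n Rψ (Dual.inD R R)) i))) ∧
      _root_.LocCoh.HasSk 2 (Localization (Algebra.algebraMapSubmonoid A p.primeCompl))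
        (LocalizedModule (Algebra.algebraMapSubmonoid A p.primeCompl)
          (Dual.HD A (Dual2.shriekVia n Rψ (Dual.inD R R)) (-(r : ℤ)))) := by
  let P := MvPolynomial (Fin n) R
  haveI : Algebra.FiniteType R A := Algebra.FiniteType.of_surjective ψ hψ
  have hneg : ∀ i : ℤ, (n : ℤ) + i < 0 → Subsingleton (Dual.HD A (Dual2.shriekVia n Rψ (Dual.inD R R)) i) := by
    intro i hi
    obtain ⟨Φ, -⟩ := exists_HD_E ψ hψ adj i _ rfl
    haveI : (Dual.inD P P).IsGE 0 := inferInstance
    haveI := DualLib.subsingleton_E_of_lt (W := Dual.inD P P) 0 (P ⧸ RingHom.ker ψ.toRingHom) ((n : ℤ) + i) hi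
    exact Φ.toEquiv.subsingleton
  rcases lt_or_ge n r with hnr | hnr
  · refine ⟨fun i hi => ?_, ?_⟩
    · haveI := hneg i (by omega)
      exact LocalizedModule.subsingleton_iff.2 fun x => ⟨1, one_mem _, Subsingleton.elim _ _⟩
    · haveI := hneg (-(r : ℤ)) (by omega)
      intro q _
      haveI : Subsingleton (LocalizedModule (Algebra.algebraMapSubmonoid A p.primeCompl)
          (Dual.HD A (Dual2.shriekVia n Rψ (Dual.inD R R)) (-(r : ℤ)))) :=
        LocalizedModule.subsingleton_iff.2 fun x => ⟨1, one_mem _, Subsingleton.elim _ _⟩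
      rw [Module.supportDim_eq_bot_of_subsingleton]
      simp
  let W : Submonoid P := Algebra.algebraMapSubmonoid P p.primeCompl
  have hW : W.map ψ.toRingHom = Algebra.algebraMapSubmonoid A p.primeCompl := by
    ext a
    constructor
    · rintro ⟨_, ⟨x, hx, rfl⟩, rfl⟩
      exact ⟨x, hx, (ψ.commutes x).symm⟩
    · rintro ⟨x, hx, rfl⟩
      exact ⟨_, ⟨x, hx, rfl⟩, ψ.commutes x⟩
  let R' := Localization.AtPrime p
  let P' := MvPolynomial (Fin n) R'
  letI : Algebra P P' := MvPolynomial.algebraMvPolynomial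
  haveI : IsLocalization W P' := MvPolynomial.isLocalization p.primeCompl R'
  haveI : LocCoh.IsCohenMacaulayRing R' := CAlgH3.isCohenMacaulayRing_of_local R'
  haveI := CAlgH3.isCohenMacaulayRing_mvPolynomial (R := R') (ULift.{u} (Fin n))
  haveI : LocCoh.IsCohenMacaulayRing P' :=
    CAlgH3.isCohenMacaulayRing_of_ringEquiv (MvPolynomial.renameEquiv R' Equiv.ulift).toRingEquiv
  haveI : Module.Flat P P' := IsLocalization.flat P' W
  let I : Ideal P := RingHom.ker ψ.toRingHom
  let I' : Ideal P' := I.map (algebraMap P P')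
  let c : ℕ := n - r
  obtain ⟨hlo, hS2⟩ := ext_cm I' c fun Q _ hQ => by
    rw [← IsLocalization.height_under W Q]
    exact natCast_le_height ψ hψ r c (by omega) hr _ (Ideal.map_le_iff_le_comap.1 hQ)
  have key : ∀ j : ℕ, Nonempty ((P' ⊗[P] Abelian.Ext (ModuleCat.of P (P ⧸ I)) (ModuleCat.of P P) j) ≃ₗ[P']
      Abelian.Ext (ModuleCat.of P' (P' ⧸ I')) (ModuleCat.of P' P') j) := by
    intro j
    haveI : Module.Finite P (P ⧸ I) := inferInstance
    obtain ⟨e⟩ := CAlgH3.nonempty_baseChange_ext (A := P) (B := P') (N := P) j (P ⧸ I)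
    exact ⟨e ≪≫ₗ CAlgH3.ExtShift.congrLeft (Algebra.TensorProduct.quotIdealMapEquivTensorQuot P' I).symm.toLinearEquiv j ≪≫ₗ
      CAlgH3.ExtShift.congrRight (TensorProduct.AlgebraTensorModule.rid P P' P') j⟩
  have hext : ∀ (i : ℤ) (j : ℕ), (n : ℤ) + i = j → ∃ Φ : Dual.HD A (Dual2.shriekVia n Rψ (Dual.inD R R)) i ≃+
      Abelian.Ext (ModuleCat.of P (P ⧸ I)) (ModuleCat.of P P) j, ∀ a m, Φ (ψ a • m) = a • Φ m := by
    intro i j hij
    obtain ⟨Φ, hΦ⟩ := exists_HD_E ψ hψ adj i (j : ℤ) hij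
    let h : DualLib.E (Dual.inD P P) (P ⧸ I) (j : ℤ) ≃ₗ[P] Abelian.Ext (ModuleCat.of P (P ⧸ I)) (ModuleCat.of P P) j :=
      (Abelian.Ext.homLinearEquiv (R := P)).symm
    refine ⟨Φ.trans h.toAddEquiv, fun a m => ?_⟩
    show h (Φ (ψ a • m)) = a • h (Φ m)
    rw [hΦ, map_smul]
  refine ⟨fun i hi => ?_, ?_⟩
  · rcases lt_or_ge ((n : ℤ) + i) 0 with hni | hni
    · haveI := hneg i hni
      exact LocalizedModule.subsingleton_iff.2 fun x => ⟨1, one_mem _, Subsingleton.elim _ _⟩
    obtain ⟨j, hj⟩ := Int.eq_ofNat_of_zero_le hni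
    obtain ⟨Φ, hΦ⟩ := hext i j hj
    obtain ⟨e⟩ := key j
    haveI := hlo j (by omega)
    haveI : Subsingleton (P' ⊗[P] Abelian.Ext (ModuleCat.of P (P ⧸ I)) (ModuleCat.of P P) j) :=
      e.toEquiv.subsingleton
    exact subsingleton_localized_of_semilinear ψ.toRingHom W _ hW Φ hΦ P'
  · obtain ⟨Φ, hΦ⟩ := hext (-(r : ℤ)) c (by omega)
    obtain ⟨e⟩ := key c
    haveI : Module.Finite P' (Abelian.Ext (ModuleCat.of P' (P' ⧸ I')) (ModuleCat.of P' P') c) := inferInstance
    haveI : Module.Finite P' (P' ⊗[P] Abelian.Ext (ModuleCat.of P (P ⧸ I)) (ModuleCat.of P P) c) :=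
      Module.Finite.equiv e.symm
    exact hasSk_localized_of_semilinear ψ.toRingHom hψ W _ hW Φ hΦ P' 2 ((EGA43.FibDepth.hasSk_congr e 2).2 hS2)

end Shriek

end Groth.Agent.Dual6Lib.OmegaS2
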